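import Groth.Agent.Chev.MultRigid
import Groth.Prelude.Def_AutFam
import Groth.Prelude.Def_AlgGrp
import Mathlib

/-!
Gluing representing objects of homomorphisms along `T × F ⟶ G`.
-/

set_option autoImplicit false
set_option backward.isDefEq.respectTransparency false
set_option backward.isDefEq.respectTransparency.types false
set_option linter.style.haveILetI false
set_option linter.unusedSectionVars false
set_option synthInstance.maxHeartbeats 400000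

universe u

open CategoryTheory CategoryTheory.Limits AlgebraicGeometry
open MonoidalCategory CartesianMonoidalCategory
open scoped MonObj

noncomputable section

namespace Groth.Agent.GmDual13480

variable {S : Scheme.{u}} [IsAffine S] {G H T F K : Over S} [GrpObj G] [IsCommMonObj G] [GrpObj H] [IsCommMonObj H]
  [GrpObj T] [GrpObj F] [GrpObj K] (j : T ⟶ G) (i : F ⟶ G) (κ₁ : K ⟶ T) (κ₂ : K ⟶ F)
  [IsMonHom j] [IsMonHom i] [IsMonHom κ₁] [IsMonHom κ₂]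

/-- The map `T × F ⟶ G`. -/
abbrev mAdd : T ⊗ F ⟶ G := (fst T F ≫ j) * (snd T F ≫ i)

theorem lift_mAdd {X : Over S} (t : X ⟶ T) (f : X ⟶ F) : lift t f ≫ mAdd j i = (t ≫ j) * (f ≫ i) := by
  rw [mAdd, MonObj.comp_mul, lift_fst_assoc, lift_snd_assoc]

/-- Homomorphisms out of `G` are pairs agreeing on `K`. -/
theorem exists_representsHom (hflat : Flat (mAdd j i).left) (hsurj : Surjective (mAdd j i).left)
    (hqc : QuasiCompact (mAdd j i).left) (hK1 : ∀ (X : Over S) (z : X ⟶ K), (z ≫ κ₁ ≫ j) * (z ≫ κ₂ ≫ i) = 1)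
    (hK2 : ∀ (X : Over S) (t : X ⟶ T) (f : X ⟶ F), (t ≫ j) * (f ≫ i) = 1 → ∃ z : X ⟶ K, z ≫ κ₁ = t ∧ z ≫ κ₂ = f)
    {D₁ D₂ D₃ : Over S} {υ₁ : T ⊗ D₁ ⟶ H} {υ₂ : F ⊗ D₂ ⟶ H} {υ₃ : K ⊗ D₃ ⟶ H}
    (h₁ : AutFam.RepresentsHom T H D₁ υ₁) (h₂ : AutFam.RepresentsHom F H D₂ υ₂)
    (h₃ : AutFam.RepresentsHom K H D₃ υ₃) [LocallyOfFiniteType D₁.hom] [LocallyOfFiniteType D₂.hom]
    [IsSeparated D₃.hom] [LocallyOfFiniteType D₃.hom] :
    ∃ (D : Over S) (υ : G ⊗ D ⟶ H), AutFam.RepresentsHom G H D υ ∧ LocallyOfFiniteType D.hom := by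
  haveI := hflat; haveI := hsurj; haveI := hqc
  let P := D₁ ⊗ D₂
  let ψ : K ⊗ P ⟶ H := (lift (fst K P ≫ κ₁) (snd K P ≫ fst D₁ D₂) ≫ υ₁) *
    (lift (fst K P ≫ κ₂) (snd K P ≫ snd D₁ D₂) ≫ υ₂)
  have hψv : ∀ {X : Over S} (z : X ⟶ K) (p : X ⟶ P), lift z p ≫ ψ =
      (lift (z ≫ κ₁) (p ≫ fst D₁ D₂) ≫ υ₁) * (lift (z ≫ κ₂) (p ≫ snd D₁ D₂) ≫ υ₂) := fun z p => by
    simp only [ψ, MonObj.comp_mul, comp_lift_assoc, lift_fst_assoc, lift_snd_assoc]
  have hψ : AutFam.IsHomFamily K H ψ := fun X z z' p => by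
    rw [hψv, hψv, hψv, MonObj.mul_comp, MonObj.mul_comp, h₁.1, h₂.1, mul_mul_mul_comm]
  have h1fam : AutFam.IsHomFamily K H (1 : K ⊗ P ⟶ H) := fun X z z' p => by
    rw [MonObj.comp_one, MonObj.comp_one, MonObj.comp_one, _root_.one_mul]
  obtain ⟨c, hc, -⟩ := h₃.2 P ψ hψ
  obtain ⟨e, he, -⟩ := h₃.2 P 1 h1fam
  let D := equalizer c e
  let ι₀ : D ⟶ P := equalizer.ι c e
  haveI : LocallyOfFiniteType P.hom :=
    inferInstanceAs (LocallyOfFiniteType (pullback.fst D₁.hom D₂.hom ≫ D₁.hom))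
  haveI : D₃.left.IsSeparated := ⟨by
    rw [terminalIsTerminal.hom_ext (terminal.from D₃.left) (D₃.hom ≫ terminal.from S)]; infer_instance⟩
  haveI : IsClosedImmersion ι₀.left := inferInstance
  haveI : LocallyOfFiniteType D.hom := by rw [← Over.w ι₀]; infer_instance
  have hD : ∀ {X : Over S} (d : X ⟶ D) (z : X ⟶ K), lift z (d ≫ ι₀) ≫ ψ = 1 := fun {X} d z => by
    rw [← hc, lift_whiskerLeft_assoc, Category.assoc, equalizer.condition c e, ← Category.assoc,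
      ← lift_whiskerLeft_assoc, he, MonObj.comp_one]
  -- the family on `T × F`
  let Φ : (T ⊗ F) ⊗ D ⟶ H := (lift (fst _ D ≫ fst T F) (snd _ D ≫ ι₀ ≫ fst D₁ D₂) ≫ υ₁) *
    (lift (fst _ D ≫ snd T F) (snd _ D ≫ ι₀ ≫ snd D₁ D₂) ≫ υ₂)
  have hΦv : ∀ {X : Over S} (t : X ⟶ T) (f : X ⟶ F) (d : X ⟶ D), lift (lift t f) d ≫ Φ =
      (lift t (d ≫ ι₀ ≫ fst D₁ D₂) ≫ υ₁) * (lift f (d ≫ ι₀ ≫ snd D₁ D₂) ≫ υ₂) := fun t f d => by
    simp only [Φ, MonObj.comp_mul, comp_lift_assoc, lift_fst_assoc, lift_snd_assoc, lift_fst, lift_snd]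
  let q : ∀ W : Over S, (T ⊗ F) ⊗ W ⟶ G ⊗ W := fun W => mAdd j i ▷ W
  have hqpb : ∀ W : Over S, Flat (q W).left ∧ Surjective (q W).left ∧ QuasiCompact (q W).left := fun W => by
    have h : IsPullback (fst (T ⊗ F) W).left (q W).left (mAdd j i).left (fst G W).left := by
      have h0 : IsPullback (fst (T ⊗ F) W) (q W) (mAdd j i) (fst G W) := .mk' (whiskerRight_fst _ _).symm
        (fun X a b h1 h2 => by
          refine CartesianMonoidalCategory.hom_ext _ _ h1 ?_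
          have := congrArg (· ≫ snd G W) h2
          simpa only [q, Category.assoc, whiskerRight_snd] using this)
        (fun X a b h => ⟨lift a (b ≫ snd G W), lift_fst _ _, by
          rw [lift_whiskerRight, h]
          exact CartesianMonoidalCategory.hom_ext _ _ (lift_fst _ _) (lift_snd _ _)⟩)
      exact h0.map (Over.forget S)
    exact ⟨MorphismProperty.of_isPullback h hflat, MorphismProperty.of_isPullback h hsurj,
      MorphismProperty.of_isPullback h hqc⟩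
  obtain ⟨hq1, hq2, hq3⟩ := hqpb D
  haveI := hq1; haveI := hq2; haveI := hq3
  obtain ⟨υ, hυ⟩ : ∃ υ : G ⊗ D ⟶ H, q D ≫ υ = Φ := by
    refine Chev.MultRigid.exists_desc_fppf (q D) Φ fun X a b hab => ?_
    obtain ⟨x, d, rfl⟩ : ∃ x d, a = lift x d :=
      ⟨a ≫ fst _ _, a ≫ snd _ _, CartesianMonoidalCategory.hom_ext _ _ (lift_fst _ _).symm (lift_snd _ _).symm⟩
    obtain ⟨y, d', rfl⟩ : ∃ y d', b = lift y d' :=
      ⟨b ≫ fst _ _, b ≫ snd _ _, CartesianMonoidalCategory.hom_ext _ _ (lift_fst _ _).symm (lift_snd _ _).symm⟩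
    rw [lift_whiskerRight, lift_whiskerRight] at hab
    have hd : d = d' := by simpa using congrArg (· ≫ snd G D) hab
    subst hd
    have hg : x ≫ mAdd j i = y ≫ mAdd j i := by simpa using congrArg (· ≫ fst G D) hab
    obtain ⟨t, f, rfl⟩ : ∃ t f, x = lift t f :=
      ⟨x ≫ fst _ _, x ≫ snd _ _, CartesianMonoidalCategory.hom_ext _ _ (lift_fst _ _).symm (lift_snd _ _).symm⟩
    obtain ⟨t', f', rfl⟩ : ∃ t f, y = lift t f :=
      ⟨y ≫ fst _ _, y ≫ snd _ _, CartesianMonoidalCategory.hom_ext _ _ (lift_fst _ _).symm (lift_snd _ _).symm⟩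
    rw [lift_mAdd, lift_mAdd] at hg
    obtain ⟨z, hz1, hz2⟩ := hK2 X (t * t'⁻¹) (f * f'⁻¹) (by
      rw [MonObj.mul_comp, MonObj.mul_comp, GrpObj.inv_comp, GrpObj.inv_comp, mul_mul_mul_comm, hg,
        ← _root_.mul_inv, mul_inv_cancel])
    have h := hD d z
    rw [hψv, hz1, hz2, Category.assoc, Category.assoc] at h
    have e1 := h₁.1 X (t * t'⁻¹) t' (d ≫ ι₀ ≫ fst D₁ D₂)
    have e2 := h₂.1 X (f * f'⁻¹) f' (d ≫ ι₀ ≫ snd D₁ D₂)
    rw [inv_mul_cancel_right] at e1 e2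
    rw [hΦv, hΦv, e1, e2, mul_mul_mul_comm, h, _root_.one_mul]
  have hυv : ∀ {X : Over S} (t : X ⟶ T) (f : X ⟶ F) (d : X ⟶ D), lift ((t ≫ j) * (f ≫ i)) d ≫ υ =
      (lift t (d ≫ ι₀ ≫ fst D₁ D₂) ≫ υ₁) * (lift f (d ≫ ι₀ ≫ snd D₁ D₂) ≫ υ₂) := fun t f d => by
    rw [← hΦv, ← hυ, lift_whiskerRight_assoc, lift_mAdd]
  have hfam : AutFam.IsHomFamily G H υ := fun X g₁ g₂ d => by
    obtain ⟨X₁, c₁, x₁, he₁, hx₁⟩ := Chev.MultRigid.exists_lift_cover (mAdd j i) g₁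
    obtain ⟨X₂, c₂, x₂, he₂, hx₂⟩ := Chev.MultRigid.exists_lift_cover (mAdd j i) (c₁ ≫ g₂)
    haveI := he₁; haveI := he₂
    rw [← cancel_epi (c₂ ≫ c₁)]
    simp only [MonObj.comp_mul, comp_lift_assoc, Category.assoc]
    obtain ⟨t₁, f₁, rfl⟩ : ∃ t f, x₁ = lift t f :=
      ⟨x₁ ≫ fst _ _, x₁ ≫ snd _ _, CartesianMonoidalCategory.hom_ext _ _ (lift_fst _ _).symm (lift_snd _ _).symm⟩
    obtain ⟨t₂, f₂, rfl⟩ : ∃ t f, x₂ = lift t f :=
      ⟨x₂ ≫ fst _ _, x₂ ≫ snd _ _, CartesianMonoidalCategory.hom_ext _ _ (lift_fst _ _).symm (lift_snd _ _).symm⟩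
    rw [lift_mAdd] at hx₁ hx₂
    rw [← hx₁, ← hx₂, MonObj.comp_mul, ← Category.assoc, ← Category.assoc c₂ f₁]
    rw [show ((c₂ ≫ t₁) ≫ j * (c₂ ≫ f₁) ≫ i) * (t₂ ≫ j * f₂ ≫ i) =
      ((c₂ ≫ t₁) * t₂) ≫ j * ((c₂ ≫ f₁) * f₂) ≫ i from by rw [MonObj.mul_comp, MonObj.mul_comp, mul_mul_mul_comm],
      hυv, hυv, hυv, h₁.1, h₂.1, mul_mul_mul_comm]
  refine ⟨D, υ, ⟨hfam, fun W φ hφ => ?_⟩, inferInstance⟩
  let φ₁ : T ⊗ W ⟶ H := (j ▷ W) ≫ φ
  let φ₂ : F ⊗ W ⟶ H := (i ▷ W) ≫ φ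
  have hφ₁ : AutFam.IsHomFamily T H φ₁ := fun X t t' w => by
    simp only [φ₁, lift_whiskerRight_assoc, MonObj.mul_comp]; exact hφ X _ _ w
  have hφ₂ : AutFam.IsHomFamily F H φ₂ := fun X t t' w => by
    simp only [φ₂, lift_whiskerRight_assoc, MonObj.mul_comp]; exact hφ X _ _ w
  obtain ⟨a₁, ha₁, hu₁⟩ := h₁.2 W φ₁ hφ₁
  obtain ⟨a₂, ha₂, hu₂⟩ := h₂.2 W φ₂ hφ₂
  have hce : lift a₁ a₂ ≫ c = lift a₁ a₂ ≫ e := by
    refine (h₃.2 W ((K ◁ lift a₁ a₂) ≫ ψ) (fun X z z' w => ?_)).unique ?_ ?_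
    · simp only [lift_whiskerLeft_assoc]; exact hψ X z z' _
    · rw [MonoidalCategory.whiskerLeft_comp, Category.assoc, hc]
    · rw [MonoidalCategory.whiskerLeft_comp, Category.assoc, he, MonObj.comp_one]
      rw [show (K ◁ lift a₁ a₂) = lift (fst K W) (snd K W ≫ lift a₁ a₂) from by ext <;> simp, hψv]
      simp only [Category.assoc, lift_fst, lift_snd]
      rw [← lift_whiskerLeft_assoc, ha₁, ← lift_whiskerLeft_assoc, ha₂]
      simp only [φ₁, φ₂, lift_whiskerRight_assoc, Category.assoc]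
      rw [← hφ (K ⊗ W) (fst K W ≫ κ₁ ≫ j) (fst K W ≫ κ₂ ≫ i) (snd K W), hK1]
      have h1 := hφ (K ⊗ W) 1 1 (snd K W)
      rw [_root_.one_mul, left_eq_mul] at h1
      exact h1.symm
  obtain ⟨hq1, hq2, hq3⟩ := hqpb W
  haveI := hq1; haveI := hq2
  haveI : Epi (q W).left := Flat.epi_of_flat_of_surjective _
  haveI : Epi (q W) := Over.epi_of_epi_left _
  refine ⟨equalizer.lift (lift a₁ a₂) hce, ?_, fun b hb => ?_⟩
  · dsimp only
    rw [← cancel_epi (q W)]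
    obtain ⟨t, f, w, he⟩ : ∃ t f w, 𝟙 ((T ⊗ F) ⊗ W) = lift (lift t f) w :=
      ⟨fst _ _ ≫ fst _ _, fst _ _ ≫ snd _ _, snd _ _, by ext <;> simp⟩
    rw [← Category.id_comp (q W), he]
    simp only [q, Category.assoc]
    rw [lift_whiskerRight_assoc, lift_whiskerRight_assoc, lift_whiskerLeft_assoc, lift_mAdd, hυv, hφ,
      Category.assoc, Category.assoc, equalizer.lift_ι_assoc, equalizer.lift_ι_assoc, lift_fst, lift_snd,
      ← lift_whiskerLeft_assoc, ha₁, ← lift_whiskerLeft_assoc, ha₂]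
    simp only [φ₁, φ₂, lift_whiskerRight_assoc]
  · apply equalizer.hom_ext
    rw [equalizer.lift_ι]
    refine CartesianMonoidalCategory.hom_ext _ _ ?_ ?_
    · rw [lift_fst]
      refine hu₁ _ ?_
      dsimp only at hb ⊢
      rw [show φ₁ = (j ▷ W) ≫ φ from rfl, ← hb,
        show (T ◁ ((b ≫ equalizer.ι c e) ≫ fst D₁ D₂)) =
          lift (fst T W) (snd T W ≫ b ≫ ι₀ ≫ fst D₁ D₂) from by ext <;> simp [ι₀],
        show (j ▷ W) ≫ (G ◁ b) ≫ υ = lift (fst T W ≫ j) (snd T W ≫ b) ≫ υ from by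
          rw [← Category.assoc]; congr 1; ext <;> simp]
      have h := hυv (fst T W) 1 (snd T W ≫ b)
      rw [MonObj.one_comp, _root_.mul_one, Category.assoc, Category.assoc] at h
      rw [h, left_eq_mul]
      have h1 := h₂.1 (T ⊗ W) 1 1 (snd T W ≫ b ≫ ι₀ ≫ snd D₁ D₂)
      rw [_root_.one_mul, left_eq_mul] at h1
      exact h1
    · rw [lift_snd]
      refine hu₂ _ ?_
      dsimp only at hb ⊢
      rw [show φ₂ = (i ▷ W) ≫ φ from rfl, ← hb,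
        show (F ◁ ((b ≫ equalizer.ι c e) ≫ snd D₁ D₂)) =
          lift (fst F W) (snd F W ≫ b ≫ ι₀ ≫ snd D₁ D₂) from by ext <;> simp [ι₀],
        show (i ▷ W) ≫ (G ◁ b) ≫ υ = lift (fst F W ≫ i) (snd F W ≫ b) ≫ υ from by
          rw [← Category.assoc]; congr 1; ext <;> simp]
      have h := hυv 1 (fst F W) (snd F W ≫ b)
      rw [MonObj.one_comp, _root_.one_mul, Category.assoc, Category.assoc] at h
      rw [h, right_eq_mul]
      have h1 := h₁.1 (F ⊗ W) 1 1 (snd F W ≫ b ≫ ι₀ ≫ fst D₁ D₂)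
      rw [_root_.one_mul, left_eq_mul] at h1
      exact h1

end Groth.Agent.GmDual13480
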