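import Groth.Agent.GmDual13480.Main
import Groth.Prelude.Def_SGA7IX

/-!
An almost-torus is isogenous to the product of a finite group and a torus.
-/

set_option autoImplicit false
set_option backward.isDefEq.respectTransparency false
set_option backward.isDefEq.respectTransparency.types false
set_option linter.style.haveILetI false

universe u

open CategoryTheory CategoryTheory.Limits AlgebraicGeometry
open MonoidalCategory CartesianMonoidalCategory
open scoped MonObj

noncomputable section

namespace Groth.Agent.GmDual13480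

theorem exists_isogeny (k : Type u) [Field k]
    (G : Over (Spec (CommRingCat.of k))) [GrpObj G] [IsCommMonObj G]
    [LocallyOfFiniteType G.hom] [IsAffine G.left]
    (T Q : Over (Spec (CommRingCat.of k))) [GrpObj T] [GrpObj Q] (j : T ⟶ G) (q : G ⟶ Q)
    [IsMonHom j] [IsMonHom q] [Mono j] (hT : Red.IsTorus T) (hker : AlgGrp.IsKernel j q)
    [Flat q.left] [Surjective q.left] [IsFinite Q.hom] :
    ∃ (A T' : Over (Spec (CommRingCat.of k))) (_ : GrpObj A) (_ : GrpObj T') (f : A ⊗ T' ⟶ G) (_ : IsMonHom f),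
      IsFinite A.hom ∧ Red.IsTorus T' ∧ SGA7.IsIsogenyOver f ∧ Flat f.left := by
  obtain ⟨F, K, hF, hK, i, κ, κ₂, him, hFc, -, hκ, hκ₂, hFf, hKf, hκm, hmf, hms, hmq, hK1, hK2⟩ :=
    exists_cover G T Q j q hT hker
  haveI := him; haveI := hκ; haveI := hκ₂; haveI := hκm; haveI := hmf; haveI := hms; haveI := hFc; haveI := hKf
  haveI : IsCommMonObj T := ⟨by
    rw [← cancel_mono j, Category.assoc, IsMonHom.mul_hom, ← BraidedCategory.braiding_naturality_assoc,
      IsCommMonObj.mul_comm]⟩
  let f : F ⊗ T ⟶ G := (fst F T ≫ i) * (snd F T ≫ j)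
  have hfv : ∀ {X : Over (Spec (CommRingCat.of k))} (a : X ⟶ F ⊗ T),
      a ≫ f = ((a ≫ snd F T) ≫ j) * ((a ≫ fst F T) ≫ i) := fun a => by
    simp only [f, MonObj.comp_mul, Category.assoc]
    exact _root_.mul_comm _ _
  have hf : IsMonHom f :=
    { one_hom := by
        rw [MonObj.comp_mul, reassoc_of% IsMonHom.one_hom (f := fst F T), IsMonHom.one_hom,
          reassoc_of% IsMonHom.one_hom (f := snd F T), IsMonHom.one_hom,
          show (η[G] : 𝟙_ _ ⟶ G) = 1 from by rw [Hom.one_def, toUnit_unit, Category.id_comp], _root_.one_mul]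
      mul_hom := by
        have e : μ[F ⊗ T] = fst _ _ * snd _ _ := Eq.symm (by rw [Hom.mul_def, lift_fst_snd, Category.id_comp])
        have e' : μ[G] = fst _ _ * snd _ _ := Eq.symm (by rw [Hom.mul_def, lift_fst_snd, Category.id_comp])
        rw [e', MonObj.comp_mul (f ⊗ₘ f), tensorHom_fst, tensorHom_snd, hfv, hfv, hfv, e, MonObj.mul_comp,
          MonObj.mul_comp, MonObj.mul_comp, MonObj.mul_comp]
        exact mul_mul_mul_comm _ _ _ _ }
  have he : f = (β_ F T).hom ≫ mAdd j i := by
    rw [← Category.id_comp f, hfv, mAdd, MonObj.comp_mul, braiding_hom_fst_assoc,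
      braiding_hom_snd_assoc, Category.id_comp, Category.id_comp]
  haveI : IsIso (β_ F T).hom.left := inferInstanceAs (IsIso ((Over.forget _).map (β_ F T).hom))
  haveI hfl : Flat f.left := by rw [he, Over.comp_left]; infer_instance
  haveI hfs : Surjective f.left := by rw [he, Over.comp_left]; infer_instance
  refine ⟨F, T, hF, inferInstance, f, hf, hFf, hT, ⟨hfs, fun N a ha => ?_⟩, hfl⟩
  have hone : ∀ (X : Over (Spec (CommRingCat.of k))), toUnit X ≫ η[G] = (1 : X ⟶ G) := fun X => Hom.one_def.symm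
  have hw : a ≫ f = 1 := by rw [ha.w, hone]
  obtain ⟨z, hz1, hz2⟩ := hK2 N (a ≫ snd F T) (a ≫ fst F T) (by rw [← hfv]; exact hw)
  let w : K ⟶ N := ha.lift (lift κ₂ κ) (toUnit K) (by
    rw [hone, hfv, lift_fst, lift_snd]
    simpa only [Category.id_comp, Category.assoc] using hK1 K (𝟙 K))
  have hw2 : w ≫ a = lift κ₂ κ := ha.lift_fst _ _ _
  have e1 : z ≫ w = 𝟙 N := ha.hom_ext (by
    rw [Category.assoc, hw2, comp_lift, hz1, hz2, Category.id_comp]
    exact CartesianMonoidalCategory.hom_ext _ _ (lift_fst _ _) (lift_snd _ _)) (toUnit_unique _ _)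
  have e2 : w ≫ z = 𝟙 K := by
    rw [← cancel_mono κ, Category.assoc, hz1, reassoc_of% hw2, lift_snd, Category.id_comp]
  haveI : IsIso z := ⟨w, e1, e2⟩
  haveI : IsIso z.left := inferInstanceAs (IsIso ((Over.forget _).map z))
  rw [← Over.w z]; infer_instance

end Groth.Agent.GmDual13480
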