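import Groth.Agent.HomDiag.Rep
import Groth.Agent.TwConst.Basic
import Groth.Agent.TorusChar.Split
import Groth.Agent.MTBridge.Torsion
import Groth.Agent.MultT.Power
import Groth.Agent.Chev.SemiAbelian
import Groth.Agent.Chev.AntiAff
import Groth.Agent.GrpField.SurjSmooth
import Groth.Agent.GrpField.FibreHom
import Groth.Agent.AgIsog.Kernel
import Groth.Agent.SpQS.DegRank

/-!
Facts on tori and finite kernels over a field.
-/

set_option autoImplicit false
set_option backward.isDefEq.respectTransparency false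
set_option backward.isDefEq.respectTransparency.types false
set_option linter.style.haveILetI false
set_option maxHeartbeats 1000000
set_option synthInstance.maxHeartbeats 400000

universe u

open CategoryTheory CategoryTheory.Limits AlgebraicGeometry
open MonoidalCategory CartesianMonoidalCategory TensorProduct
open scoped MonObj

noncomputable section

namespace Groth.Agent.GmDual13480

variable {k : Type u} [Field k]

/-- The characters of a torus over a field are represented by an etale scheme. -/
theorem exists_torus_dual (T : Over (Spec (CommRingCat.of k))) [GrpObj T] (hT : Red.IsTorus T) :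
    ∃ (D : Over (Spec (CommRingCat.of k))) (υ : T ⊗ D ⟶ Red.Gm (Spec (CommRingCat.of k))),
      AutFam.RepresentsHom T (Red.Gm (Spec (CommRingCat.of k))) D υ ∧ LocallyOfFiniteType D.hom := by
  obtain ⟨L, _, _, w, r, hs⟩ := Chev.exists_split_of_isTorus hT
  obtain ⟨φ, rfl⟩ := Spec.map_surjective w
  letI : Algebra k L := φ.hom.toAlgebra
  obtain ⟨A, _, _, ⟨i⟩, N, _, _, _, _, ⟨eN⟩⟩ := TorusChar.exists_galois_split (n := r) T ⟨L, inferInstance, φ.hom.toAlgebra, hs⟩
  let f := Spec.map (CommRingCat.ofHom (algebraMap k N))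
  haveI : Etale f := (HasRingHomProperty.Spec_iff (P := @Etale)).2
    (by
    haveI : Algebra.FormallyEtale k N := Algebra.FormallyEtale.of_isSeparable k N
    haveI : Algebra.FinitePresentation k N := Algebra.FinitePresentation.of_finiteType.1 inferInstance
    haveI : Algebra.Etale k N := ⟨inferInstance, inferInstance⟩
    exact RingHom.etale_algebraMap.2 this)
  obtain ⟨j₁⟩ := MTBridge.nonempty_bc_specGrp k N A
  obtain ⟨j₂⟩ := MTBridge.nonempty_DS_iso N (Fin r → ℤ)
  obtain ⟨j₃⟩ := MTBridge.nonempty_specGrp_iso ((eN.trans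
    (MonoidAlgebra.domCongrBialgEquiv N N (MulEquiv.ulift (α := Multiplicative (Fin r → ℤ))))).symm)
  obtain ⟨D, hD, υ, hυ, -, htw⟩ := HomDiag.exists_dual_twConstGrp T (fun s => ⟨Spec (CommRingCat.of N), f, ‹_›, by
    refine ⟨IsLocalRing.closedPoint N, ?_⟩
    exact Subsingleton.elim (α := PrimeSpectrum k) _ _, Fin r → ℤ, inferInstance,
      ⟨MTBridge.bcMapIso f i ≪≫ j₁ ≪≫ j₃ ≪≫ j₂.symm⟩⟩)
  haveI := TwConst.etale D (fun s => by
    obtain ⟨S', g, hg, hr, M, _, e, -⟩ := htw s
    exact ⟨S', g, hg, hr, M, ⟨e⟩⟩)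
  exact ⟨D, υ, hυ, inferInstance⟩

/-- The kernel of multiplication by `n` on a torus is finite. -/
theorem exists_torus_torsion (T : Over (Spec (CommRingCat.of k))) [GrpObj T] [IsCommMonObj T]
    (hT : Red.IsTorus T) {n : ℕ} (hn : 0 < n) :
    ∃ (K : Over (Spec (CommRingCat.of k))) (_ : GrpObj K) (κ : K ⟶ T), IsMonHom κ ∧ Mono κ ∧ IsFinite K.hom ∧
      ∀ (X : Over (Spec (CommRingCat.of k))) (t : X ⟶ T), (∃ z : X ⟶ K, z ≫ κ = t) ↔ t ^ n = 1 := by
  obtain ⟨A, _, _, hA, hAft, ⟨i⟩⟩ := MTBridge.exists_hopf T (MTBridge.isMultTypeFT_of_isTorus T hT)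
  haveI := hAft
  obtain ⟨B, _, _, hB, hBft, e, he, hec, hiff⟩ := MTBridge.exists_torsion hA n
  haveI := he; haveI := hec; haveI := hBft
  haveI : Mono e.left := inferInstance
  haveI : Mono e := Over.mono_of_mono_left e
  haveI : IsMonHom i.inv.hom.hom := i.inv.hom.isMonHom_hom
  haveI : IsMonHom i.hom.hom.hom := i.hom.hom.isMonHom_hom
  haveI : IsIso i.inv.hom.hom := inferInstanceAs (IsIso ((Grp.forget _).map i.inv))
  have hpow : (𝟙 (MTBridge.specGrp k B).X) ^ n = 1 := by
    rw [← cancel_mono e, MonObj.pow_comp, Category.id_comp, MonObj.one_comp]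
    exact (hiff _ e).1 ⟨𝟙 _, Category.id_comp e⟩
  have hid : MTBridge.pt (R := k) (A := B) (WithConv.toConv (AlgHom.id k B)) = 𝟙 (MTBridge.specGrp k B).X :=
    Over.OverMorphism.ext (Spec.map_id _)
  have htor : SGA3b.torsionIdeal k B n = ⊥ :=
    le_bot_iff.1 (((MTBridge.pt_pow_eq_one_iff (AlgHom.id k B) n).1 (by rw [hid]; exact hpow)).trans
      (le_of_eq ((RingHom.injective_iff_ker_eq_bot _).1 Function.injective_id)))
  haveI : Module.Finite k B := (MultT.finite_iff hB hBft).2 ⟨n, hn, htor⟩
  refine ⟨(MTBridge.specGrp k B).X, inferInstance, e ≫ i.inv.hom.hom, inferInstance, inferInstance, ?_, fun X t => ?_⟩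
  · exact (IsFinite.SpecMap_iff _).2 (RingHom.finite_algebraMap.2 inferInstance)
  · have h := hiff X (t ≫ i.hom.hom.hom)
    have hii : i.hom.hom.hom ≫ i.inv.hom.hom = 𝟙 T := ((Grp.forget _).mapIso i).hom_inv_id
    rw [← cancel_mono i.inv.hom.hom, MonObj.pow_comp, Category.assoc, hii, Category.comp_id, MonObj.one_comp] at h
    rw [← h]
    refine exists_congr fun z => ?_
    rw [← cancel_mono i.inv.hom.hom (g := z ≫ e), Category.assoc, Category.assoc, hii, Category.comp_id]

/-- Multiplication by a positive integer is faithfully flat on a torus. -/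
theorem flat_surjective_pow (T : Over (Spec (CommRingCat.of k))) [GrpObj T] [IsCommMonObj T]
    (hT : Red.IsTorus T) {n : ℕ} (hn : 0 < n) :
    Flat (𝟙 T ^ n).left ∧ Surjective (𝟙 T ^ n).left := by
  haveI := Chev.surjective_pow_torus hT hn
  refine ⟨?_, inferInstance⟩
  haveI := Chev.smooth_of_isTorus hT
  haveI := Chev.isAffine_of_isTorus hT
  haveI : IsReduced T.left := Chev.isReduced_of_smooth' T
  haveI : QuasiCompact (𝟙 T ^ n).left := inferInstance
  haveI := Chev.isMonHom_pow T n
  exact GrpField.flat_of_surjective_reduced (𝟙 T ^ n)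

/-- A homomorphism to a finite group with finite kernel has finite source. -/
theorem isFinite_of_finite_kernel {F Q : Over (Spec (CommRingCat.of k))} [GrpObj F] [GrpObj Q]
    [IsAffine F.left] [LocallyOfFiniteType F.hom] [IsFinite Q.hom] (f : F ⟶ Q) [IsMonHom f]
    (hker : ∀ (N : Over (Spec (CommRingCat.of k))) (j : N ⟶ F), Mono j →
      (∀ (X : Over (Spec (CommRingCat.of k))) (g : X ⟶ F), (∃ z, z ≫ j = g) ↔ g ≫ f = 1) → IsFinite N.hom) :
    IsFinite F.hom := by
  obtain ⟨N, hN, j, -, hj, hpb, hmem⟩ := AgIsog.exists_kernel f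
  haveI := hker N j hj hmem
  have h0 : IsFinite (pullback.snd f.left η[Q].left) := by
    rw [← hpb.isoPullback_inv_snd]
    infer_instance
  have h1 : IsFinite (pullback.snd f.left (1 : F ⟶ Q).left) := by
    rw [show (1 : F ⟶ Q) = toUnit F ≫ η[Q] from rfl, Over.comp_left]
    exact GrpField.snd_of_comp f @IsFinite _ _ h0
  rw [GrpField.translate_iff f @IsFinite (1 : F ⟶ Q) (𝟙 F), Category.id_comp, _root_.one_mul] at h1
  haveI : IsAffine Q.left := isAffine_of_isAffineHom Q.hom
  haveI : LocallyOfFiniteType (f.left ≫ Q.hom) := by rw [Over.w]; infer_instance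
  haveI : LocallyOfFiniteType f.left := locallyOfFiniteType_of_comp f.left Q.hom
  haveI := h1
  haveI : LocallyQuasiFinite f.left := .of_finite_preimage_singleton _ fun b => by
    rcases (f.left ⁻¹' {b}).eq_empty_or_nonempty with he | ⟨a, ha⟩
    · rw [he]; exact Set.finite_empty
    refine (((pullback.snd f.left f.left).finite_preimage_singleton a).image (pullback.fst f.left f.left)).subset
      fun c hc => ?_
    obtain ⟨v, h1, h2⟩ := Scheme.Pullback.exists_preimage_pullback (f := f.left) (g := f.left) c a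
      (hc.trans ha.symm)
    exact ⟨v, h2, h1⟩
  haveI : LocallyQuasiFinite (f.left ≫ Q.hom) := inferInstance
  haveI : Finite F.left := by
    haveI : Finite Q.left := Set.finite_univ_iff.1 ((Q.hom.finite_preimage_singleton (IsLocalRing.closedPoint k)).subset
      fun x _ => Subsingleton.elim (α := PrimeSpectrum k) _ _)
    exact Set.finite_univ_iff.1 ((Set.finite_univ.preimage' (f := f.left)
      fun b _ => f.left.finite_preimage_singleton b))
  haveI : LocallyQuasiFinite F.hom := by rw [← Over.w f]; infer_instance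
  exact SpQS.isFinite_of_finite F.hom

end Groth.Agent.GmDual13480
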