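import Groth.Agent.GmDual13480.Rep
import Groth.Agent.GmDual13480.Torus
import Groth.Agent.GmDual13480.Glue
import Groth.Agent.HomRep.HomScheme
import Groth.Agent.Chev.Exponent
import Groth.Agent.Chev.LargestSA
import Groth.Agent.Chev.Divisible

/-!
The dual sheaf of an almost-torus is representable.
-/

set_option autoImplicit false
set_option backward.isDefEq.respectTransparency false
set_option backward.isDefEq.respectTransparency.types false
set_option linter.style.haveILetI false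
set_option maxHeartbeats 1000000
set_option synthInstance.maxHeartbeats 400000

universe u

open CategoryTheory CategoryTheory.Limits AlgebraicGeometry
open MonoidalCategory CartesianMonoidalCategory
open scoped MonObj

noncomputable section

namespace Groth.Agent.GmDual13480

variable {k : Type u} [Field k]

theorem isMonHom_of_mono_comp {A B C : Over (Spec (CommRingCat.of k))} [GrpObj A] [GrpObj B] [GrpObj C] (g : A ⟶ B)
    (j : B ⟶ C) [IsMonHom j] [Mono j] (a : A ⟶ C) [IsMonHom a] (h : g ≫ j = a) : IsMonHom g where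
  one_hom := by rw [← cancel_mono j, Category.assoc, h, IsMonHom.one_hom, IsMonHom.one_hom]
  mul_hom := by
    rw [← cancel_mono j, Category.assoc, h, IsMonHom.mul_hom, Category.assoc, IsMonHom.mul_hom,
      tensorHom_comp_tensorHom_assoc, h]

/-- An almost-torus is covered by the product of a finite group and the torus, with finite kernel. -/
theorem exists_cover (G : Over (Spec (CommRingCat.of k))) [GrpObj G] [IsCommMonObj G] [IsAffine G.left]
    [LocallyOfFiniteType G.hom] (T Q : Over (Spec (CommRingCat.of k))) [GrpObj T] [GrpObj Q] (j : T ⟶ G) (q : G ⟶ Q)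
    [IsMonHom j] [IsMonHom q] [Mono j] (hT : Red.IsTorus T) (hker : AlgGrp.IsKernel j q) [Flat q.left]
    [Surjective q.left] [IsFinite Q.hom] :
    ∃ (F K : Over (Spec (CommRingCat.of k))) (_ : GrpObj F) (_ : GrpObj K) (i : F ⟶ G) (κ : K ⟶ T) (κ₂ : K ⟶ F),
      IsMonHom i ∧ IsCommMonObj F ∧ IsCommMonObj K ∧ IsMonHom κ ∧ IsMonHom κ₂ ∧ IsFinite F.hom ∧ IsFinite K.hom ∧
      Mono κ ∧ Flat (mAdd j i).left ∧ Surjective (mAdd j i).left ∧ QuasiCompact (mAdd j i).left ∧
      (∀ (X : Over (Spec (CommRingCat.of k))) (z : X ⟶ K), (z ≫ κ ≫ j) * (z ≫ κ₂ ≫ i) = 1) ∧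
      ∀ (X : Over (Spec (CommRingCat.of k))) (t : X ⟶ T) (f : X ⟶ F), (t ≫ j) * (f ≫ i) = 1 →
        ∃ z : X ⟶ K, z ≫ κ = t ∧ z ≫ κ₂ = f := by
  haveI : IsCommMonObj T := ⟨by
    rw [← cancel_mono j, Category.assoc, IsMonHom.mul_hom, ← BraidedCategory.braiding_naturality_assoc,
      IsCommMonObj.mul_comm]⟩
  haveI : IsAffine Q.left := isAffine_of_isAffineHom Q.hom
  haveI : IsAffine T.left := Chev.isAffine_of_isTorus hT
  haveI : IsNoetherianRing k := inferInstance
  haveI : IsLocallyNoetherian Q.left := LocallyOfFiniteType.isLocallyNoetherian Q.hom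
  haveI : LocallyOfFiniteType q.left := by
    haveI : LocallyOfFiniteType (q.left ≫ Q.hom) := by rw [Over.w]; infer_instance
    exact locallyOfFiniteType_of_comp q.left Q.hom
  haveI : IsCommMonObj Q := Chev.isCommMonObj_of_surjective q
  obtain ⟨n, hn, hQn⟩ := Chev.exists_pow_eq_one_of_finite Q
  haveI := Chev.isMonHom_pow G n
  haveI := Chev.isMonHom_pow T n
  -- the power map factors through the torus
  have hqn : (𝟙 G ^ n) ≫ q = toUnit G ≫ η[Q] := by
    rw [MonObj.pow_comp, Category.id_comp, ← Category.comp_id q, ← MonObj.comp_pow, hQn, MonObj.comp_one]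
    exact Hom.one_def
  let ν : G ⟶ T := hker.lift (𝟙 G ^ n) (toUnit G) hqn
  have hν : ν ≫ j = 𝟙 G ^ n := hker.lift_fst _ _ _
  have hνv : ∀ {X : Over (Spec (CommRingCat.of k))} (g : X ⟶ G), (g ≫ ν) ≫ j = g ^ n := fun g => by
    rw [Category.assoc, hν, MonObj.comp_pow, Category.comp_id]
  have hTq : ∀ {X : Over (Spec (CommRingCat.of k))} (g : X ⟶ G), g ≫ q = 1 → ∃ t : X ⟶ T, t ≫ j = g := fun g hg =>
    ⟨hker.lift g (toUnit _) (hg.trans Hom.one_def), hker.lift_fst _ _ _⟩
  have hjq : ∀ {X : Over (Spec (CommRingCat.of k))} (t : X ⟶ T), (t ≫ j) ≫ q = 1 := fun t => by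
    rw [Category.assoc, hker.w, comp_toUnit_assoc, ← Hom.one_def]
  -- the torsion of `G`
  obtain ⟨F, hF, i, him, himono, hipb, hi⟩ := AgIsog.exists_kernel (𝟙 G ^ n)
  haveI := him; haveI := himono
  have hi' : ∀ {X : Over (Spec (CommRingCat.of k))} (g : X ⟶ G), (∃ z : X ⟶ F, z ≫ i = g) ↔ g ^ n = 1 := fun g => by
    rw [hi, MonObj.comp_pow, Category.comp_id]
  haveI : IsClosedImmersion η[G].left := GrpField.isClosedImmersion_eta G
  haveI : IsClosedImmersion i.left := MorphismProperty.of_isPullback hipb.flip ‹_›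
  haveI : IsAffine F.left := isAffine_of_isAffineHom i.left
  haveI : LocallyOfFiniteType F.hom := by rw [← Over.w i]; infer_instance
  haveI : IsCommMonObj F := ⟨by
    rw [← cancel_mono i, Category.assoc, IsMonHom.mul_hom, ← BraidedCategory.braiding_naturality_assoc,
      IsCommMonObj.mul_comm]⟩
  -- the torsion of `T`
  obtain ⟨K, hK, κ, hκ, hκmono, hKfin, hκn⟩ := exists_torus_torsion T hT hn
  haveI := hκ; haveI := hκmono; haveI := hKfin
  haveI : IsMonHom (κ ≫ j) := inferInstance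
  haveI : IsCommMonObj K := ⟨by
    rw [← cancel_mono κ, Category.assoc, IsMonHom.mul_hom, ← BraidedCategory.braiding_naturality_assoc,
      IsCommMonObj.mul_comm]⟩
  have hjn : ∀ {X : Over (Spec (CommRingCat.of k))} (t : X ⟶ T), (t ≫ j) ^ n = 1 ↔ t ^ n = 1 := fun t => by
    rw [← MonObj.pow_comp, ← MonObj.one_comp j, cancel_mono]
  have hκ1 : κ ^ n = 1 := (hκn K κ).1 ⟨𝟙 _, Category.id_comp _⟩
  obtain ⟨κ₂, hκ₂⟩ := (hi' ((κ ≫ j)⁻¹)).2 (by rw [inv_pow, (hjn κ).2 hκ1, inv_one])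
  haveI : IsMonHom κ₂ := by
    haveI : IsMonHom ((κ ≫ j)⁻¹) := inferInstance
    exact isMonHom_of_mono_comp κ₂ i _ hκ₂
  haveI : IsFinite F.hom := isFinite_of_finite_kernel (i ≫ q) fun N b hb hbmem => by
    haveI := hb
    have h1 : (b ≫ i) ≫ q = 1 := by rw [Category.assoc]; exact (hbmem N b).1 ⟨𝟙 N, Category.id_comp b⟩
    obtain ⟨t, ht⟩ := hTq _ h1
    obtain ⟨a, ha⟩ := (hκn N t).2 ((hjn t).1 (by rw [ht]; exact (hi' _).1 ⟨b, rfl⟩))
    obtain ⟨z, hz⟩ := (hi' (κ ≫ j)).2 ((hjn κ).2 hκ1)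
    obtain ⟨a', ha'⟩ := (hbmem K z).2 (by rw [← Category.assoc, hz]; exact hjq κ)
    have e1 : a ≫ a' = 𝟙 N := by
      rw [← cancel_mono b, ← cancel_mono i, Category.assoc, Category.assoc, reassoc_of% ha', hz,
        Category.id_comp, reassoc_of% ha, ht]
    have e2 : a' ≫ a = 𝟙 K := by
      rw [← cancel_mono κ, ← cancel_mono j, Category.assoc, Category.assoc, reassoc_of% ha, ht,
        Category.id_comp, reassoc_of% ha', hz]
    haveI : IsIso a := ⟨a', e1, e2⟩
    haveI : IsIso a.left := inferInstanceAs (IsIso ((Over.forget _).map a))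
    rw [← Over.w a]; infer_instance
  haveI : Flat F.hom := AlgSpLib.flat_of_field _
  haveI : Flat K.hom := AlgSpLib.flat_of_field _
  -- the covering `T × F ⟶ G`
  have hpb : IsPullback (mAdd j i) (fst T F) ν (𝟙 T ^ n) := by
    refine .mk' ?_ (fun X a b h1 h2 => ?_) (fun X g t h => ?_)
    · rw [← cancel_mono j, Category.assoc, hν, MonObj.comp_pow, Category.comp_id, MonObj.comp_pow, Category.comp_id,
        mul_pow, ← MonObj.pow_comp (fst T F), (hi' (snd T F ≫ i)).1 ⟨_, rfl⟩, _root_.mul_one]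
    · refine CartesianMonoidalCategory.hom_ext _ _ h2 ?_
      rw [← cancel_mono i, Category.assoc, Category.assoc]
      simp only [mAdd, MonObj.comp_mul] at h1
      rw [← Category.assoc a, h2, Category.assoc] at h1
      exact mul_left_cancel h1
    · have h' : g ^ n = (t ≫ j) ^ n := by
        rw [← hνv, h, MonObj.comp_pow, Category.comp_id, MonObj.pow_comp]
      obtain ⟨f, hf⟩ := (hi' (g * (t ≫ j)⁻¹)).2 (by rw [mul_pow, inv_pow, h', mul_inv_cancel])
      exact ⟨lift t f, by rw [lift_mAdd, hf, mul_comm g, mul_inv_cancel_left], lift_fst _ _⟩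
  have hpb' := (hpb.map (Over.forget (Spec (CommRingCat.of k)))).flip
  obtain ⟨hnf, hns⟩ := flat_surjective_pow T hT hn
  haveI : QuasiCompact (𝟙 T ^ n).left := inferInstance
  refine ⟨F, K, hF, hK, i, κ, κ₂, ‹_›, ‹_›, ‹_›, ‹_›, ‹_›, ‹_›, ‹_›, ‹_›, MorphismProperty.of_isPullback hpb' hnf,
    MorphismProperty.of_isPullback hpb' hns, MorphismProperty.of_isPullback hpb' ‹_›,
    fun X z => by rw [hκ₂, GrpObj.comp_inv, mul_inv_cancel], fun X t f h => ?_⟩
  have hti : t ≫ j = (f ≫ i)⁻¹ := eq_inv_of_mul_eq_one_left h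
  obtain ⟨z, hz⟩ := (hκn X t).2 ((hjn t).1 (by rw [hti, inv_pow, (hi' _).1 ⟨f, rfl⟩, inv_one]))
  refine ⟨z, hz, ?_⟩
  rw [← cancel_mono i, Category.assoc, hκ₂, GrpObj.comp_inv, reassoc_of% hz, hti, inv_inv]

/-- The dual sheaf of an extension of a finite group by a torus is representable. -/
theorem exists_dual_representable (G : Over (Spec (CommRingCat.of k))) [GrpObj G] [IsCommMonObj G] [IsAffine G.left]
    [LocallyOfFiniteType G.hom] (T Q : Over (Spec (CommRingCat.of k))) [GrpObj T] [GrpObj Q] (j : T ⟶ G) (q : G ⟶ Q)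
    [IsMonHom j] [IsMonHom q] [Mono j] (hT : Red.IsTorus T) (hker : AlgGrp.IsKernel j q) [Flat q.left]
    [Surjective q.left] [IsFinite Q.hom] :
    ∃ (D : Over (Spec (CommRingCat.of k))) (_ : GrpObj D) (_ : IsCommMonObj D), LocallyOfFiniteType D.hom ∧
      Nonempty (CGrpSh.pts Scheme.fppfPrecoverage D ≅
        CGrpSh2.dualSh Scheme.fppfPrecoverage (CGrpSh.pts Scheme.fppfPrecoverage G)) := by
  haveI : IsAffine T.left := Chev.isAffine_of_isTorus hT
  obtain ⟨F, K, hF, hK, i, κ, κ₂, him, -, -, hκ, hκ₂, hFf, hKf, -, hmf, hms, hmq, hK1, hK2⟩ :=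
    exists_cover G T Q j q hT hker
  haveI := him; haveI := hκ; haveI := hκ₂; haveI := hFf; haveI := hKf
  haveI : Flat F.hom := AlgSpLib.flat_of_field _
  haveI : Flat K.hom := AlgSpLib.flat_of_field _
  haveI : IsAffineHom (Red.Gm (Spec (CommRingCat.of k))).hom := MTBridge.isAffineHom_DS _ ℤ
  haveI : IsAffine (Red.Gm (Spec (CommRingCat.of k))).left := isAffine_of_isAffineHom (Red.Gm _).hom
  haveI : LocallyOfFiniteType (Red.Gm (Spec (CommRingCat.of k))).hom := MTFT.lft_DS _ ℤ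
  obtain ⟨D₁, υ₁, h₁, hD₁⟩ := exists_torus_dual T hT
  obtain ⟨D₂, υ₂, h₂, hD₂a, hD₂f, -⟩ := HomRep.exists_homGrpScheme F (Red.Gm (Spec (CommRingCat.of k)))
  obtain ⟨D₃, υ₃, h₃, hD₃a, hD₃f, -⟩ := HomRep.exists_homGrpScheme K (Red.Gm (Spec (CommRingCat.of k)))
  haveI := hD₁; haveI := hD₂a; haveI := hD₃a; haveI := hD₂f ‹_›; haveI := hD₃f ‹_›
  obtain ⟨D, υ, hυ, hD⟩ := exists_representsHom j i κ κ₂ hmf hms hmq hK1 hK2 h₁ h₂ h₃
  obtain ⟨i', hc, e⟩ := exists_pts_iso_dualSh hυ
  exact ⟨D, i', hc, hD, e⟩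

end Groth.Agent.GmDual13480
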