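import Groth.Agent.GaExt.H1Ext
import Groth.Agent.GaExt.DDMain
import Groth.Prelude.Def_AutFam
import Groth.Prelude.Def_CGrpSh2

/-!
A scheme representing homomorphisms into `𝔾_m` represents the dual sheaf.
-/

set_option autoImplicit false
set_option backward.isDefEq.respectTransparency false
set_option backward.isDefEq.respectTransparency.types false
set_option linter.style.haveILetI false
set_option synthInstance.maxHeartbeats 400000

universe u

open CategoryTheory CategoryTheory.Limits AlgebraicGeometry Opposite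
open MonoidalCategory CartesianMonoidalCategory
open scoped MonObj
open Groth.Agent.GaExt

noncomputable section

namespace Groth.Agent.GmDual13480

variable {S : Scheme.{u}} (G H : Over S) [GrpObj G] [GrpObj H] [IsCommMonObj H]

/-- The group of families of characters. -/
def famGrp (T : Over S) : Subgroup (G ⊗ T ⟶ H) where
  carrier := {φ | AutFam.IsHomFamily G H φ}
  mul_mem' {φ ψ} hφ hψ X g₁ g₂ t := by
    rw [MonObj.comp_mul, MonObj.comp_mul, MonObj.comp_mul, hφ X g₁ g₂ t, hψ X g₁ g₂ t, mul_mul_mul_comm]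
  one_mem' X g₁ g₂ t := by rw [MonObj.comp_one, MonObj.comp_one, MonObj.comp_one, _root_.one_mul]
  inv_mem' {φ} hφ X g₁ g₂ t := by
    rw [GrpObj.comp_inv, GrpObj.comp_inv, GrpObj.comp_inv, hφ X g₁ g₂ t, _root_.mul_inv]

variable {G H} in
theorem IsHomFamily.pullback' {T T' : Over S} {φ : G ⊗ T ⟶ H} (hφ : AutFam.IsHomFamily G H φ)
    (f : T' ⟶ T) : AutFam.IsHomFamily G H ((G ◁ f) ≫ φ) := fun X g₁ g₂ t => by
  rw [lift_whiskerLeft_assoc, lift_whiskerLeft_assoc, lift_whiskerLeft_assoc]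
  exact hφ X g₁ g₂ (t ≫ f)

/-- The functor of families of characters. -/
def famFunctor : (Over S)ᵒᵖ ⥤ GrpCat.{u} where
  obj T := GrpCat.of (famGrp G H T.unop)
  map {T T'} f := GrpCat.ofHom (MonoidHom.mk' (fun φ => ⟨(G ◁ f.unop) ≫ φ.1, IsHomFamily.pullback' φ.2 f.unop⟩)
    (fun φ ψ => Subtype.ext (MonObj.comp_mul _ _ _)))
  map_id T := GrpCat.ext fun φ => Subtype.ext (by
    show (G ◁ 𝟙 T.unop) ≫ φ.1 = φ.1
    rw [MonoidalCategory.whiskerLeft_id, Category.id_comp])
  map_comp {T T' T''} f g := GrpCat.ext fun φ => Subtype.ext (by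
    show (G ◁ (g.unop ≫ f.unop)) ≫ φ.1 = (G ◁ g.unop) ≫ (G ◁ f.unop) ≫ φ.1
    rw [MonoidalCategory.whiskerLeft_comp, Category.assoc])

variable {G H} {D : Over S} {υ : G ⊗ D ⟶ H}

/-- Points of a representing object are families of characters. -/
def famEquiv (hυ : AutFam.RepresentsHom G H D υ) (T : Over S) : (T ⟶ D) ≃ famGrp G H T :=
  Equiv.ofBijective (fun a => ⟨(G ◁ a) ≫ υ, IsHomFamily.pullback' hυ.1 a⟩)
    ⟨fun a b h => (hυ.2 T _ (IsHomFamily.pullback' hυ.1 b)).unique (congrArg Subtype.val h) rfl,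
      fun φ => ⟨_, Subtype.ext (hυ.2 T φ.1 φ.2).exists.choose_spec⟩⟩

/-- A representing object is a commutative group. -/
theorem exists_grpObj (hυ : AutFam.RepresentsHom G H D υ) :
    ∃ (_ : GrpObj D), IsCommMonObj D ∧
      ∀ (T : Over S) (a b : T ⟶ D), (G ◁ (a * b)) ≫ υ = ((G ◁ a) ≫ υ) * ((G ◁ b) ≫ υ) := by
  let r : (famFunctor G H ⋙ forget GrpCat).RepresentableBy D :=
    { homEquiv := fun {T} => famEquiv hυ T
      homEquiv_comp := fun {T T'} f g => Subtype.ext (by
        show (G ◁ (f ≫ g)) ≫ υ = (G ◁ f) ≫ (G ◁ g) ≫ υ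
        rw [MonoidalCategory.whiskerLeft_comp, Category.assoc]) }
  letI i : GrpObj D := GrpObj.ofRepresentableBy D (famFunctor G H) r
  have hmul : ∀ (T : Over S) (a b : T ⟶ D),
      (G ◁ (a * b)) ≫ υ = ((G ◁ a) ≫ υ) * ((G ◁ b) ≫ υ) := fun T a b => by
    have hμ : μ[D] = (famEquiv hυ _).symm (famEquiv hυ _ (fst D D) * famEquiv hυ _ (snd D D)) := rfl
    have h : (G ◁ μ[D]) ≫ υ = ((G ◁ fst D D) ≫ υ) * ((G ◁ snd D D) ≫ υ) := by
      rw [hμ]
      exact congrArg Subtype.val
        ((famEquiv hυ (D ⊗ D)).apply_symm_apply (famEquiv hυ _ (fst D D) * famEquiv hυ _ (snd D D)))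
    rw [Hom.mul_def, MonoidalCategory.whiskerLeft_comp, Category.assoc, h, MonObj.comp_mul,
      ← MonoidalCategory.whiskerLeft_comp_assoc, ← MonoidalCategory.whiskerLeft_comp_assoc, lift_fst, lift_snd]
  refine ⟨i, ⟨?_⟩, hmul⟩
  have hfs : μ[D] = fst D D * snd D D := Eq.symm (by rw [Hom.mul_def, lift_fst_snd, Category.id_comp])
  rw [hfs, MonObj.comp_mul, braiding_hom_fst, braiding_hom_snd]
  refine (famEquiv hυ _).injective (Subtype.ext ?_)
  show (G ◁ (snd D D * fst D D)) ≫ υ = (G ◁ (fst D D * snd D D)) ≫ υ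
  rw [hmul, hmul, _root_.mul_comm]

variable [GrpObj D] [IsCommMonObj D] [IsCommMonObj G]

/-- A point as a section. -/
def pS {X : Over S} [GrpObj X] [IsCommMonObj X] {W : Over S} (g : W ⟶ X) :
    BigSite.sect Scheme.fppfPrecoverage (CGrpSh.pts Scheme.fppfPrecoverage X) W :=
  ULift.up (Additive.ofMul g)

theorem pS_surjective {X : Over S} [GrpObj X] [IsCommMonObj X] {W : Over S}
    (s : BigSite.sect Scheme.fppfPrecoverage (CGrpSh.pts Scheme.fppfPrecoverage X) W) : ∃ g, pS g = s :=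
  ⟨Additive.toMul s.down, rfl⟩

/-- The morphism of restricted sheaves given by a point of the representing object. -/
def charOf (hυ : AutFam.IsHomFamily G H υ) {W : Over S} (a : W ⟶ D) :
    (CGrpSh.pts Scheme.fppfPrecoverage G).over W ⟶ (CGrpSh.pts Scheme.fppfPrecoverage H).over W :=
  ⟨{
    app := fun V => AddCommGrpCat.ofHom (X := ULift.{u + 1} (Additive (V.unop.left ⟶ G)))
      (Y := ULift.{u + 1} (Additive (V.unop.left ⟶ H))) (AddMonoidHom.mk'
      (fun q => ULift.up (Additive.ofMul (lift (Additive.toMul q.down) (V.unop.hom ≫ a) ≫ υ)))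
      (fun q q' => ULift.ext _ _ (congrArg Additive.ofMul
        (hυ _ (Additive.toMul q.down) (Additive.toMul q'.down) _))))
    naturality := fun V V' t => AddCommGrpCat.ext fun q => ULift.ext _ _ (congrArg Additive.ofMul (by
      show lift (t.unop.left ≫ Additive.toMul q.down) (V'.unop.hom ≫ a) ≫ υ =
        t.unop.left ≫ lift (Additive.toMul q.down) (V.unop.hom ≫ a) ≫ υ
      rw [← Category.assoc, comp_lift, ← Category.assoc, Over.w t.unop])) }⟩

theorem charOf_app (hυ : AutFam.IsHomFamily G H υ) {W : Over S} (a : W ⟶ D) {V : Over S} (c : V ⟶ W)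
    (g : V ⟶ G) : ov (charOf hυ a) c (pS g) = pS (lift g (c ≫ a) ≫ υ) := rfl

theorem charOf_mul (hυ : AutFam.IsHomFamily G H υ)
    (hmul : ∀ (T : Over S) (a b : T ⟶ D), (G ◁ (a * b)) ≫ υ = ((G ◁ a) ≫ υ) * ((G ◁ b) ≫ υ))
    {W : Over S} (a b : W ⟶ D) : charOf hυ (a * b) = charOf hυ a + charOf hυ b :=
  over_hom_ext fun {V} c s => by
    obtain ⟨g, rfl⟩ := pS_surjective s
    refine ULift.ext _ _ (congrArg Additive.ofMul ?_)
    show lift g (c ≫ (a * b)) ≫ υ = (lift g (c ≫ a) ≫ υ) * (lift g (c ≫ b) ≫ υ)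
    rw [← lift_whiskerLeft_assoc g c (a * b) υ, ← lift_whiskerLeft_assoc g c a υ,
      ← lift_whiskerLeft_assoc g c b υ, hmul, MonObj.comp_mul]

/-- The comparison with the dual sheaf. -/
def toDual (hυ : AutFam.IsHomFamily G H υ)
    (hmul : ∀ (T : Over S) (a b : T ⟶ D), (G ◁ (a * b)) ≫ υ = ((G ◁ a) ≫ υ) * ((G ◁ b) ≫ υ)) :
    CGrpSh.pts Scheme.fppfPrecoverage D ⟶
      HomSh.homSh (QuotSh.J Scheme.fppfPrecoverage S) (CGrpSh.pts Scheme.fppfPrecoverage G) (CGrpSh.pts Scheme.fppfPrecoverage H) :=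
  ⟨{
    app := fun W => AddCommGrpCat.ofHom (X := ULift.{u + 1} (Additive (W.unop ⟶ D)))
      (Y := (CGrpSh.pts Scheme.fppfPrecoverage G).over W.unop ⟶ (CGrpSh.pts Scheme.fppfPrecoverage H).over W.unop)
      (AddMonoidHom.mk' (fun a => charOf hυ (Additive.toMul a.down))
        (fun a b => charOf_mul hυ hmul (Additive.toMul a.down) (Additive.toMul b.down)))
    naturality := fun W W' t => AddCommGrpCat.ext fun a => over_hom_ext fun {V} c s => by
      obtain ⟨g, rfl⟩ := pS_surjective s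
      refine ULift.ext _ _ (congrArg Additive.ofMul ?_)
      show lift g (c ≫ t.unop ≫ Additive.toMul a.down) ≫ υ =
        lift g ((c ≫ t.unop) ≫ Additive.toMul a.down) ≫ υ
      rw [Category.assoc] }⟩

theorem bijective_charOf (hυ : AutFam.RepresentsHom G H D υ) (W : Over S) :
    Function.Bijective (charOf (W := W) hυ.1) := by
  refine ⟨fun a b h => ?_, fun d => ?_⟩
  · refine (famEquiv hυ W).injective (Subtype.ext ?_)
    show (G ◁ a) ≫ υ = (G ◁ b) ≫ υ
    have e := congrArg (fun d => ov d (snd G W) (pS (fst G W))) h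
    have e' : lift (fst G W) (snd G W ≫ a) ≫ υ = lift (fst G W) (snd G W ≫ b) ≫ υ :=
      congrArg (fun s => Additive.toMul (ULift.down s)) e
    rwa [show lift (fst G W) (snd G W ≫ a) = G ◁ a from by ext <;> simp,
      show lift (fst G W) (snd G W ≫ b) = G ◁ b from by ext <;> simp] at e'
  · obtain ⟨φ, hφ⟩ := pS_surjective (ov d (snd G W) (pS (fst G W)))
    have hval : ∀ {V : Over S} (c : V ⟶ W) (g : V ⟶ G), ov d c (pS g) = pS (lift g c ≫ φ) := fun {V} c g => by
      have h := over_app_res d (lift g c) (snd G W) (pS (fst G W))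
      rw [show GaExt.res (CGrpSh.pts Scheme.fppfPrecoverage G) (lift g c) (pS (fst G W)) = pS g from
        congrArg pS (lift_fst _ _), lift_snd, ← hφ] at h
      exact h
    have hfam : AutFam.IsHomFamily G H φ := fun V g₁ g₂ t => by
      have h := map_add (ov d t) (pS g₁) (pS g₂)
      rw [show pS g₁ + pS g₂ = pS (g₁ * g₂) from rfl, hval, hval, hval] at h
      exact congrArg (fun s => Additive.toMul (ULift.down s)) h
    obtain ⟨a, ha, -⟩ := hυ.2 W φ hfam
    refine ⟨a, over_hom_ext fun {V} c s => ?_⟩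
    obtain ⟨g, rfl⟩ := pS_surjective s
    rw [charOf_app, hval]
    refine congrArg pS ?_
    rw [← ha, lift_whiskerLeft_assoc]

omit [GrpObj D] [IsCommMonObj D] in
/-- A scheme representing the characters of `G` represents the dual sheaf, with its group structure. -/
theorem exists_pts_iso_dualSh (hυ : AutFam.RepresentsHom G H D υ) :
    ∃ (_ : GrpObj D) (_ : IsCommMonObj D), Nonempty (CGrpSh.pts Scheme.fppfPrecoverage D ≅
      HomSh.homSh (QuotSh.J Scheme.fppfPrecoverage S) (CGrpSh.pts Scheme.fppfPrecoverage G) (CGrpSh.pts Scheme.fppfPrecoverage H)) := by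
  obtain ⟨i, hc, hmul⟩ := exists_grpObj hυ
  let β := toDual hυ.1 hmul
  refine ⟨i, hc, ?_⟩
  haveI : ∀ W, IsIso (β.hom.app W) := fun W => (ConcreteCategory.isIso_iff_bijective _).2
    ((bijective_charOf hυ W.unop).comp (Additive.toMul.bijective.comp Equiv.ulift.bijective))
  haveI : IsIso β.hom := NatIso.isIso_of_isIso_app _
  haveI : IsIso ((sheafToPresheaf _ _).map β) := ‹_›
  haveI : IsIso β := isIso_of_fully_faithful (sheafToPresheaf _ _) _
  exact ⟨asIso β⟩

end Groth.Agent.GmDual13480
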